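import Mathlib
import Cfsg.Agent.LieRecognition.FT61.Red
set_option linter.all false

-- part: H640/Red1
section
/-!
# Integral forms over a valuation ring and reduction (helper640)
-/

set_option autoImplicit false
set_option linter.unusedSectionVars false

namespace Cfsg.Agent.H640

open Module Matrix IsLocalRing Cfsg.Agent.LieRecognition.FT61.Red

/-! ### Integral forms -/

theorem exists_integral {D : Type*} [Group D] [Finite D] {K : Type*} [Field K] {m : ℕ}
    (B : ValuationSubring K) (σ : D →* Matrix (Fin m) (Fin m) K) :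
    ∃ (σ₀ : D →* Matrix (Fin m) (Fin m) B) (P P' : Matrix (Fin m) (Fin m) K),
      P * P' = 1 ∧ P' * P = 1 ∧ ∀ g, (σ₀ g).map (algebraMap B K) = P' * σ g * P := by
  classical
  let s : D →* GL (Fin m) K := σ.toHomUnits
  have hs : ∀ g, ((s g : GL (Fin m) K) : Matrix (Fin m) (Fin m) K) = σ g := fun g => rfl
  obtain ⟨b⟩ := exists_basis_lattice s B
  let P : Matrix (Fin m) (Fin m) K := Matrix.of fun i j => (b j : Fin m → K) i
  let toM : Module.End B (lattice s B) →* Matrix (Fin m) (Fin m) B :=
    (LinearMap.toMatrixAlgEquiv b : _ ≃ₐ[B] _).toMulEquiv.toMonoidHom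
  let f : D →* Matrix (Fin m) (Fin m) B := toM.comp (latticeRep s B)
  have hP : IsUnit P := by
    have hli : LinearIndependent B fun j => (b j : Fin m → K) :=
      b.linearIndependent.map' (lattice s B).subtype (Submodule.ker_subtype _)
    have hliK : LinearIndependent K fun j => (b j : Fin m → K) :=
      (LinearIndependent.iff_fractionRing B K).1 hli
    rw [← Matrix.linearIndependent_cols_iff_isUnit]
    exact hliK
  have hdet : IsUnit P.det := (Matrix.isUnit_iff_isUnit_det P).1 hP
  have hPP : P * P⁻¹ = 1 := Matrix.mul_nonsing_inv P hdet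
  have hPP' : P⁻¹ * P = 1 := Matrix.nonsing_inv_mul P hdet
  refine ⟨f, P, P⁻¹, hPP, hPP', fun g => ?_⟩
  have hkey : σ g * P = P * (f g).map (algebraMap B K) := by
    ext i j
    have h1 : (latticeRep s B g) (b j) = ∑ l, (f g) l j • b l := by
      have h2 := LinearMap.toMatrix_apply b b (latticeRep s B g)
      rw [← b.sum_repr ((latticeRep s B g) (b j))]
      refine Finset.sum_congr rfl fun l _ => ?_
      congr 1
      exact (h2 l j).symm
    have h3 : (((latticeRep s B g) (b j) : lattice s B) : Fin m → K) i =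
        ((∑ l, (f g) l j • b l : lattice s B) : Fin m → K) i := by rw [h1]
    rw [latticeRep_apply, hs] at h3
    rw [Matrix.mul_apply, Matrix.mul_apply]
    have h4 : (σ g).mulVec (b j : Fin m → K) i = ∑ l, σ g i l * P l j := rfl
    rw [← h4, h3, AddSubmonoidClass.coe_finsetSum, Finset.sum_apply]
    refine Finset.sum_congr rfl fun l _ => ?_
    show ((f g) l j : B) • (b l : Fin m → K) i = _
    rw [Matrix.map_apply, mul_comm]
    rfl
  rw [Matrix.mul_assoc, hkey, ← Matrix.mul_assoc, hPP', Matrix.one_mul]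

/-! ### The orthogonality relation -/

section Orth

variable {N : Type*} [Group N] [Fintype N] {F F' : Type*} [CommRing F] [CommRing F'] {n : ℕ}

/-- the orthogonality relation of matrix coefficients -/
def Orth (R : N →* Matrix (Fin n) (Fin n) F) : Prop :=
  ∀ s : Matrix (Fin n) (Fin n) F,
    (n : F) • ∑ x, (s * R x⁻¹).trace • R x = (Nat.card N : F) • s

/-- the image of a matrix representation under a ring homomorphism -/
def mapRep {G : Type*} [Monoid G] (R : G →* Matrix (Fin n) (Fin n) F) (f : F →+* F') :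
    G →* Matrix (Fin n) (Fin n) F' :=
  (f.mapMatrix : Matrix (Fin n) (Fin n) F →+* Matrix (Fin n) (Fin n) F').toMonoidHom.comp R

theorem mapRep_apply {G : Type*} [Monoid G] (R : G →* Matrix (Fin n) (Fin n) F) (f : F →+* F')
    (g : G) : mapRep R f g = (R g).map f := rfl

theorem trace_mapF (f : F →+* F') (A : Matrix (Fin n) (Fin n) F) : (A.map f).trace = f A.trace := by
  rw [Matrix.trace, Matrix.trace, map_sum]
  rfl

theorem mapOrth_eq (R : N →* Matrix (Fin n) (Fin n) F) (f : F →+* F')
    (s : Matrix (Fin n) (Fin n) F) :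
    (n : F') • ∑ x, ((s.map f) * mapRep R f x⁻¹).trace • mapRep R f x =
      ((n : F) • ∑ x, (s * R x⁻¹).trace • R x).map f := by
  have h1 : ∀ x, ((s.map f) * mapRep R f x⁻¹).trace = f (s * R x⁻¹).trace := by
    intro x
    rw [mapRep_apply, ← Matrix.map_mul, trace_mapF]
  simp only [h1]
  ext i j
  simp only [Matrix.smul_apply, Matrix.sum_apply, Matrix.map_apply, smul_eq_mul, map_mul,
    map_natCast, map_sum, mapRep_apply]

theorem Orth.map {R : N →* Matrix (Fin n) (Fin n) F} (h : Orth R) (f : F →+* F')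
    (hf : Function.Surjective f) : Orth (mapRep R f) := by
  intro s
  obtain ⟨s', rfl⟩ : ∃ s' : Matrix (Fin n) (Fin n) F, s'.map f = s := by
    choose g hg using fun i j => hf (s i j)
    exact ⟨Matrix.of g, by ext i j; exact hg i j⟩
  rw [mapOrth_eq, h s']
  ext i j
  simp

theorem Orth.of_map {R : N →* Matrix (Fin n) (Fin n) F} (f : F →+* F')
    (hf : Function.Injective f) (h : Orth (mapRep R f)) : Orth R := by
  intro s
  have h1 := h (s.map f)
  rw [mapOrth_eq] at h1
  have h2 : ((Nat.card N : F') • s.map f) = ((Nat.card N : F) • s).map f := by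
    ext i j
    simp
  rw [h2] at h1
  exact Matrix.map_injective hf h1

theorem Orth.conj {R R' : N →* Matrix (Fin n) (Fin n) F} (h : Orth R)
    {P P' : Matrix (Fin n) (Fin n) F} (hP : P * P' = 1) (hP' : P' * P = 1)
    (hR : ∀ x, R' x = P' * R x * P) : Orth R' := by
  intro s
  have h1 := h (P * s * P')
  have h2 : ∀ x, (P * s * P' * R x⁻¹).trace = (s * R' x⁻¹).trace := by
    intro x
    rw [hR]
    calc (P * s * P' * R x⁻¹).trace = (P * (s * P' * R x⁻¹)).trace := by
          simp only [Matrix.mul_assoc]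
      _ = (s * P' * R x⁻¹ * P).trace := Matrix.trace_mul_comm _ _
      _ = _ := by simp only [Matrix.mul_assoc]
  simp only [h2] at h1
  have h3 := congrArg (fun M => P' * M * P) h1
  simp only [Matrix.mul_smul, Matrix.smul_mul, Matrix.mul_sum, Matrix.sum_mul] at h3
  have h4 : P' * (P * s * P') * P = s := by
    calc P' * (P * s * P') * P = (P' * P) * s * (P' * P) := by simp only [Matrix.mul_assoc]
      _ = s := by rw [hP', Matrix.one_mul, Matrix.mul_one]
  rw [h4] at h3
  rw [← h3]
  congr 1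
  refine Finset.sum_congr rfl fun x _ => ?_
  rw [← hR]

/-- coordinates of the relation -/
theorem Orth.coord {R : N →* Matrix (Fin n) (Fin n) F} (h : Orth R) (i j a b : Fin n) :
    (n : F) * ∑ x, R x⁻¹ j i * R x a b = if i = a ∧ j = b then (Nat.card N : F) else 0 := by
  have h1 := congrFun (congrFun (h (Matrix.single i j 1)) a) b
  rw [Matrix.smul_apply, Matrix.smul_apply, Matrix.sum_apply, smul_eq_mul, smul_eq_mul,
    Matrix.single_apply] at h1
  simp only [mul_ite, mul_one, mul_zero] at h1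
  rw [← h1]
  congr 1
  refine Finset.sum_congr rfl fun x _ => ?_
  rw [Matrix.smul_apply, smul_eq_mul, Matrix.trace_single_mul, one_smul]

/-- averages -/
theorem Orth.avg {R : N →* Matrix (Fin n) (Fin n) F} (h : Orth R)
    (s : Matrix (Fin n) (Fin n) F) :
    (n : F) • ∑ x, R x * s * R x⁻¹ = (Nat.card N : F) • (s.trace • (1 : Matrix _ _ F)) := by
  ext a b
  rw [Matrix.smul_apply, Matrix.sum_apply, Matrix.smul_apply, Matrix.smul_apply, smul_eq_mul,
    smul_eq_mul, smul_eq_mul]
  have h4 : ∀ x, (R x * s * R x⁻¹) a b = ∑ i, ∑ j, s i j * (R x⁻¹ j b * R x a i) := by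
    intro x
    rw [Matrix.mul_apply]
    simp only [Matrix.mul_apply, Finset.sum_mul]
    rw [Finset.sum_comm]
    exact Finset.sum_congr rfl fun i _ => Finset.sum_congr rfl fun j _ => by ring
  simp only [h4]
  rw [Finset.sum_comm, Finset.mul_sum]
  have h5 : ∀ i, (n : F) * ∑ x, ∑ j, s i j * (R x⁻¹ j b * R x a i) =
      ∑ j, s i j * (if b = a ∧ j = i then (Nat.card N : F) else 0) := by
    intro i
    rw [Finset.sum_comm, Finset.mul_sum]
    refine Finset.sum_congr rfl fun j _ => ?_
    rw [← Finset.mul_sum, ← h.coord b j a i, mul_left_comm]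
  simp only [h5]
  by_cases hab : b = a
  · subst hab
    simp only [true_and, mul_ite, mul_zero, Finset.sum_ite_eq', Finset.mem_univ, if_true,
      Matrix.one_apply_eq, mul_one]
    rw [← Finset.sum_mul, mul_comm]
    rfl
  · simp [hab, Ne.symm hab]

/-- the norm of the trace -/
theorem Orth.sum_trace {R : N →* Matrix (Fin n) (Fin n) F} (h : Orth R) :
    (n : F) * ∑ x, (R x⁻¹).trace * (R x).trace = (n : F) * Nat.card N := by
  have h1 : ∀ x, (R x⁻¹).trace * (R x).trace = ∑ i, ∑ a, R x⁻¹ i i * R x a a := by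
    intro x
    rw [Matrix.trace, Matrix.trace, Finset.sum_mul_sum]
    rfl
  simp only [h1]
  rw [Finset.sum_comm, Finset.mul_sum]
  have h2 : ∀ i : Fin n, (n : F) * ∑ x, ∑ a, R x⁻¹ i i * R x a a = Nat.card N := by
    intro i
    rw [Finset.sum_comm, Finset.mul_sum]
    have h3 : ∀ a, (n : F) * ∑ x, R x⁻¹ i i * R x a a = if i = a then (Nat.card N : F) else 0 := by
      intro a
      rw [h.coord i i a a]
      by_cases hia : i = a <;> simp [hia]
    simp only [h3]
    simp
  simp only [h2]
  simp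

/-- With the orthogonality relation, everything that commutes is a scalar. -/
theorem Orth.scalar {F : Type*} [Field F] {R : N →* Matrix (Fin n) (Fin n) F} (h : Orth R)
    (hn : (n : F) ≠ 0) (hN : (Nat.card N : F) ≠ 0) {s : Matrix (Fin n) (Fin n) F}
    (hs : ∀ x, s * R x = R x * s) : s = (s.trace / n) • 1 := by
  have h2 : ∑ x, R x * s * R x⁻¹ = (Nat.card N : F) • s := by
    have : ∀ x, R x * s * R x⁻¹ = s := by
      intro x
      rw [← hs x, Matrix.mul_assoc, ← map_mul, mul_inv_cancel, map_one, Matrix.mul_one]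
    simp only [this]
    rw [Finset.sum_const, Finset.card_univ, ← Nat.card_eq_fintype_card, Nat.cast_smul_eq_nsmul]
  have h3 := h.avg s
  rw [h2, smul_comm] at h3
  have h6 : (n : F) • s = s.trace • (1 : Matrix _ _ F) := by
    have h7 : (Nat.card N : F)⁻¹ • ((Nat.card N : F) • ((n : F) • s)) =
        (Nat.card N : F)⁻¹ • ((Nat.card N : F) • (s.trace • (1 : Matrix _ _ F))) := by rw [h3]
    rwa [smul_smul, inv_mul_cancel₀ hN, one_smul, smul_smul, inv_mul_cancel₀ hN, one_smul] at h7
  rw [div_eq_inv_mul, ← smul_smul, ← h6, smul_smul, inv_mul_cancel₀ hn, one_smul]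

theorem Orth.ne_zero {F : Type*} [Field F] {R : N →* Matrix (Fin n) (Fin n) F} (h : Orth R)
    (hn : 0 < n) (hN : (Nat.card N : F) ≠ 0) : (n : F) ≠ 0 := by
  intro h0
  have h1 := congrFun (congrFun (h 1) ⟨0, hn⟩) ⟨0, hn⟩
  rw [h0, zero_smul, Matrix.smul_apply, Matrix.one_apply_eq, Matrix.zero_apply, smul_eq_mul,
    mul_one] at h1
  exact hN h1.symm

end Orth

end Cfsg.Agent.H640
end

-- part: H640/Red2
section
/-!
# Valuation rings of `ℂ` over `p`: Teichmüller lifts (helper640)
-/

set_option autoImplicit false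
set_option linter.unusedSectionVars false

namespace Cfsg.Agent.H640

open Module Matrix IsLocalRing Cfsg.Agent.LieRecognition.FT61.Red

/-- there is a valuation ring of `ℂ` whose residue field has characteristic `p` -/
theorem exists_valRing (p : ℕ) [Fact p.Prime] :
    ∃ B : ValuationSubring ℂ, CharP (ResidueField B) p := by
  obtain ⟨B, hB⟩ := exists_valuationSubring ℂ p
  have hp : (p : B) ∈ maximalIdeal B := by
    rw [IsLocalRing.mem_maximalIdeal, mem_nonunits_iff]
    have := (ValuationSubring.coe_mem_nonunits_iff (A := B) (a := (p : B))).1 (by simpa using hB)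
    exact this
  refine ⟨B, (CharP.charP_iff_prime_eq_zero (Fact.out : p.Prime)).2 ?_⟩
  have := (residue_eq_zero_iff (R := B) (p : B)).2 hp
  simpa using this

variable {B : ValuationSubring ℂ} {p : ℕ} [hp : Fact p.Prime] [CharP (ResidueField B) p]

theorem mem_of_isIntegral {z : ℂ} (hz : IsIntegral ℤ z) : z ∈ B := by
  have h1 : IsIntegral B z := hz.tower_top
  obtain ⟨b, hb⟩ := IsIntegrallyClosed.isIntegral_iff.1 h1
  rw [← hb]
  exact b.2

theorem mem_of_pow_eq_one {z : ℂ} {r : ℕ} (hr : r ≠ 0) (h : z ^ r = 1) : z ∈ B := by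
  apply mem_of_isIntegral
  refine ⟨Polynomial.X ^ r - 1, Polynomial.monic_X_pow_sub_C 1 hr, ?_⟩
  simp [h]

theorem eq_one_of_residue {t : B} {r : ℕ} (hr : ¬ p ∣ r) (h : t ^ r = 1)
    (h1 : residue B t = 1) : t = 1 := by
  have hgeom : (∑ i ∈ Finset.range r, t ^ i) * (t - 1) = 0 := by
    rw [geom_sum_mul, h, sub_self]
  have h2 : residue B (∑ i ∈ Finset.range r, t ^ i) = (r : ResidueField B) := by
    rw [map_sum]
    simp [h1]
  rcases mul_eq_zero.1 hgeom with h3 | h3
  · exfalso
    rw [h3, map_zero] at h2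
    exact hr ((CharP.cast_eq_zero_iff (ResidueField B) p r).1 h2.symm)
  · exact sub_eq_zero.1 h3

theorem eq_of_residue {s t : B} {r : ℕ} (hr : ¬ p ∣ r) (hs : s ^ r = 1) (ht : t ^ r = 1)
    (h1 : residue B s = residue B t) : s = t := by
  have hr0 : r ≠ 0 := fun h => hr (h ▸ dvd_zero p)
  have ht' : t ^ (r - 1) * t = 1 := by
    rw [← pow_succ, Nat.sub_add_cancel (Nat.one_le_iff_ne_zero.2 hr0), ht]
  have h2 : s * t ^ (r - 1) = 1 := by
    refine eq_one_of_residue hr ?_ ?_
    · rw [mul_pow, hs, one_mul, ← pow_mul, mul_comm, pow_mul, ht, one_pow]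
    · rw [map_mul, h1, ← map_mul, mul_comm, ht', map_one]
  calc s = s * (t ^ (r - 1) * t) := by rw [ht', mul_one]
    _ = t := by rw [← mul_assoc, h2, one_mul]

/-- Teichmüller lifts of linear characters. -/
theorem exists_teich {L : Type*} [Group L] [Finite L] (χ : L →* (ResidueField B)ˣ) :
    ∃ χ' : L →* B, (∀ h, residue B (χ' h) = χ h) ∧ ∃ r, ¬ p ∣ r ∧ ∀ h, χ' h ^ r = 1 := by
  classical
  have hfin : Finite χ.range := Finite.of_surjective χ.rangeRestrict χ.rangeRestrict_surjective
  set r := Nat.card χ.range with hr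
  have hpr : ¬ p ∣ r := by
    intro h
    obtain ⟨x, hx⟩ := exists_prime_orderOf_dvd_card' p h
    have h1 : ((x : (ResidueField B)ˣ) : ResidueField B) ^ p = 1 := by
      have h2 : x ^ p = 1 := by rw [← hx, pow_orderOf_eq_one]
      have h3 := congrArg (fun y : χ.range => ((y : (ResidueField B)ˣ) : ResidueField B)) h2
      simpa using h3
    have h2 : (((x : (ResidueField B)ˣ) : ResidueField B) - 1) ^ p = 0 := by
      rw [sub_pow_char, h1, one_pow, sub_self]
    have h3 : ((x : (ResidueField B)ˣ) : ResidueField B) = 1 :=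
      sub_eq_zero.1 (pow_eq_zero_iff (hp.out.ne_zero) |>.1 h2)
    have h4 : x = 1 := Subtype.ext (Units.ext h3)
    rw [h4, orderOf_one] at hx
    exact hp.out.one_lt.ne hx
  have hr0 : r ≠ 0 := fun h => hpr (h ▸ dvd_zero p)
  have hζ := Complex.isPrimitiveRoot_exp r hr0
  obtain ⟨ζ, hζ'⟩ : ∃ ζ : B, (ζ : ℂ) = Complex.exp (2 * Real.pi * Complex.I / r) :=
    ⟨⟨_, mem_of_pow_eq_one hr0 hζ.pow_eq_one⟩, rfl⟩
  rw [← hζ'] at hζ
  have hζB : IsPrimitiveRoot ζ r := by
    rw [← IsPrimitiveRoot.map_iff_of_injective (f := B.subtype) B.subtype_injective]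
    exact hζ
  have hζk : IsPrimitiveRoot (residue B ζ) r := by
    refine (IsPrimitiveRoot.iff (Nat.pos_of_ne_zero hr0)).2 ⟨?_, fun l hl hlr h => ?_⟩
    · rw [← map_pow, hζB.pow_eq_one, map_one]
    · rw [← map_pow] at h
      have h1 : ζ ^ l = 1 := eq_one_of_residue hpr
        (by rw [← pow_mul, mul_comm, pow_mul, hζB.pow_eq_one, one_pow]) h
      exact hζB.pow_ne_one_of_pos_of_lt hl.ne' hlr h1
  have hpow : ∀ h : L, ((χ h : (ResidueField B)ˣ) : ResidueField B) ^ r = 1 := by
    intro h
    have h1 : (⟨χ h, h, rfl⟩ : χ.range) ^ r = 1 := pow_card_eq_one'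
    have h3 := congrArg (fun y : χ.range => ((y : (ResidueField B)ˣ) : ResidueField B)) h1
    simpa using h3
  have : NeZero r := ⟨hr0⟩
  choose i hi hi' using fun h : L => hζk.eq_pow_of_pow_eq_one (hpow h)
  have hpow' : ∀ h, (ζ ^ i h) ^ r = 1 := fun h => by
    rw [← pow_mul, mul_comm, pow_mul, hζB.pow_eq_one, one_pow]
  refine ⟨⟨⟨fun h => ζ ^ i h, ?_⟩, ?_⟩, fun h => ?_, r, hpr, hpow'⟩
  · refine eq_of_residue hpr (hpow' 1) (one_pow r) ?_
    rw [map_pow, hi', map_one, map_one, Units.val_one]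
  · intro a b
    refine eq_of_residue hpr (hpow' _) ?_ ?_
    · rw [mul_pow, hpow', hpow', one_mul]
    · show residue B (ζ ^ i (a * b)) = residue B (ζ ^ i a * ζ ^ i b)
      rw [map_mul, map_pow, map_pow, map_pow, hi', hi', hi', map_mul, Units.val_mul]
  · show residue B (ζ ^ i h) = _
    rw [map_pow, hi']

end Cfsg.Agent.H640
end
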